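import Cfsg.Agent.Spec53.U34.Basic

/-!
Data for the certificate: powers of an element of order 13, orbit representatives of the vectors of
norm one, and all vectors of norm one.
-/

set_option autoImplicit false

namespace CfsgLib.Spec53.U34

/-- The element of order 13. -/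
def cC : M3 := ⟨⟨13, 11, 12⟩, ⟨3, 11, 10⟩, ⟨8, 10, 15⟩⟩

/-- Its powers. -/
def cPow : List M3 := [
  ⟨⟨1, 0, 0⟩, ⟨0, 1, 0⟩, ⟨0, 0, 1⟩⟩, ⟨⟨13, 11, 12⟩, ⟨3, 11, 10⟩, ⟨8, 10, 15⟩⟩,
  ⟨⟨10, 14, 9⟩, ⟨5, 15, 9⟩, ⟨14, 9, 8⟩⟩, ⟨⟨14, 15, 9⟩, ⟨10, 7, 11⟩, ⟨14, 11, 0⟩⟩,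
  ⟨⟨12, 14, 6⟩, ⟨5, 4, 1⟩, ⟨4, 1, 6⟩⟩, ⟨⟨7, 12, 13⟩, ⟨8, 1, 8⟩, ⟨7, 8, 11⟩⟩,
  ⟨⟨0, 2, 4⟩, ⟨13, 3, 1⟩, ⟨9, 1, 14⟩⟩, ⟨⟨0, 11, 14⟩, ⟨3, 2, 1⟩, ⟨5, 1, 9⟩⟩,
  ⟨⟨7, 15, 7⟩, ⟨10, 1, 15⟩, ⟨11, 15, 13⟩⟩, ⟨⟨10, 4, 5⟩, ⟨9, 5, 1⟩, ⟨6, 1, 6⟩⟩,
  ⟨⟨9, 12, 9⟩, ⟨8, 7, 13⟩, ⟨14, 13, 0⟩⟩, ⟨⟨12, 4, 9⟩, ⟨9, 8, 14⟩, ⟨14, 14, 15⟩⟩,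
  ⟨⟨11, 2, 15⟩, ⟨13, 13, 12⟩, ⟨10, 12, 8⟩⟩]

/-- Orbit representatives on vectors of norm one. -/
def repV : List V3 := [
  ⟨0, 0, 1⟩, ⟨0, 0, 8⟩, ⟨0, 0, 10⟩, ⟨0, 0, 12⟩, ⟨0, 0, 15⟩, ⟨0, 1, 0⟩, ⟨0, 2, 4⟩, ⟨0, 2, 5⟩,
  ⟨0, 2, 6⟩, ⟨0, 2, 14⟩, ⟨0, 3, 4⟩, ⟨0, 3, 5⟩, ⟨0, 3, 6⟩, ⟨0, 3, 9⟩, ⟨0, 4, 2⟩, ⟨0, 4, 3⟩,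
  ⟨0, 4, 7⟩, ⟨0, 4, 11⟩, ⟨0, 4, 13⟩, ⟨0, 5, 2⟩, ⟨0, 5, 3⟩, ⟨0, 5, 7⟩, ⟨0, 5, 13⟩, ⟨0, 6, 2⟩,
  ⟨0, 6, 3⟩, ⟨0, 6, 7⟩, ⟨0, 7, 4⟩, ⟨0, 7, 6⟩, ⟨0, 8, 0⟩, ⟨0, 9, 3⟩, ⟨0, 9, 11⟩, ⟨0, 10, 0⟩,
  ⟨0, 11, 4⟩, ⟨0, 11, 5⟩, ⟨0, 11, 6⟩, ⟨0, 12, 0⟩, ⟨0, 13, 5⟩, ⟨0, 13, 6⟩, ⟨0, 14, 2⟩, ⟨0, 15, 0⟩,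
  ⟨1, 1, 1⟩, ⟨1, 1, 8⟩, ⟨1, 1, 10⟩, ⟨1, 2, 2⟩, ⟨1, 2, 7⟩, ⟨1, 3, 2⟩, ⟨1, 3, 3⟩, ⟨1, 3, 7⟩,
  ⟨1, 3, 11⟩, ⟨1, 3, 13⟩, ⟨1, 4, 5⟩, ⟨1, 4, 9⟩, ⟨1, 4, 14⟩, ⟨1, 5, 4⟩, ⟨1, 5, 5⟩, ⟨1, 5, 6⟩,
  ⟨1, 5, 14⟩, ⟨1, 6, 4⟩, ⟨1, 6, 5⟩, ⟨1, 6, 6⟩, ⟨1, 6, 14⟩, ⟨1, 7, 3⟩, ⟨1, 7, 11⟩, ⟨1, 7, 13⟩,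
  ⟨1, 8, 1⟩, ⟨1, 11, 11⟩, ⟨1, 12, 15⟩, ⟨1, 13, 2⟩, ⟨1, 13, 3⟩, ⟨1, 13, 7⟩, ⟨1, 14, 6⟩, ⟨1, 14, 9⟩,
  ⟨2, 1, 13⟩, ⟨2, 2, 12⟩, ⟨2, 6, 0⟩, ⟨2, 10, 11⟩, ⟨2, 11, 1⟩, ⟨3, 11, 15⟩, ⟨7, 1, 7⟩, ⟨7, 2, 12⟩]

/-- The vectors of norm one. -/
def normV : List V3 := [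
  ⟨0, 0, 1⟩, ⟨0, 0, 8⟩, ⟨0, 0, 10⟩, ⟨0, 0, 12⟩, ⟨0, 0, 15⟩, ⟨0, 1, 0⟩, ⟨0, 2, 4⟩, ⟨0, 2, 5⟩,
  ⟨0, 2, 6⟩, ⟨0, 2, 9⟩, ⟨0, 2, 14⟩, ⟨0, 3, 4⟩, ⟨0, 3, 5⟩, ⟨0, 3, 6⟩, ⟨0, 3, 9⟩, ⟨0, 3, 14⟩,
  ⟨0, 4, 2⟩, ⟨0, 4, 3⟩, ⟨0, 4, 7⟩, ⟨0, 4, 11⟩, ⟨0, 4, 13⟩, ⟨0, 5, 2⟩, ⟨0, 5, 3⟩, ⟨0, 5, 7⟩,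
  ⟨0, 5, 11⟩, ⟨0, 5, 13⟩, ⟨0, 6, 2⟩, ⟨0, 6, 3⟩, ⟨0, 6, 7⟩, ⟨0, 6, 11⟩, ⟨0, 6, 13⟩, ⟨0, 7, 4⟩,
  ⟨0, 7, 5⟩, ⟨0, 7, 6⟩, ⟨0, 7, 9⟩, ⟨0, 7, 14⟩, ⟨0, 8, 0⟩, ⟨0, 9, 2⟩, ⟨0, 9, 3⟩, ⟨0, 9, 7⟩,
  ⟨0, 9, 11⟩, ⟨0, 9, 13⟩, ⟨0, 10, 0⟩, ⟨0, 11, 4⟩, ⟨0, 11, 5⟩, ⟨0, 11, 6⟩, ⟨0, 11, 9⟩, ⟨0, 11, 14⟩,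
  ⟨0, 12, 0⟩, ⟨0, 13, 4⟩, ⟨0, 13, 5⟩, ⟨0, 13, 6⟩, ⟨0, 13, 9⟩, ⟨0, 13, 14⟩, ⟨0, 14, 2⟩, ⟨0, 14, 3⟩,
  ⟨0, 14, 7⟩, ⟨0, 14, 11⟩, ⟨0, 14, 13⟩, ⟨0, 15, 0⟩, ⟨1, 0, 0⟩, ⟨1, 1, 1⟩, ⟨1, 1, 8⟩, ⟨1, 1, 10⟩,
  ⟨1, 1, 12⟩, ⟨1, 1, 15⟩, ⟨1, 2, 2⟩, ⟨1, 2, 3⟩, ⟨1, 2, 7⟩, ⟨1, 2, 11⟩, ⟨1, 2, 13⟩, ⟨1, 3, 2⟩,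
  ⟨1, 3, 3⟩, ⟨1, 3, 7⟩, ⟨1, 3, 11⟩, ⟨1, 3, 13⟩, ⟨1, 4, 4⟩, ⟨1, 4, 5⟩, ⟨1, 4, 6⟩, ⟨1, 4, 9⟩,
  ⟨1, 4, 14⟩, ⟨1, 5, 4⟩, ⟨1, 5, 5⟩, ⟨1, 5, 6⟩, ⟨1, 5, 9⟩, ⟨1, 5, 14⟩, ⟨1, 6, 4⟩, ⟨1, 6, 5⟩,
  ⟨1, 6, 6⟩, ⟨1, 6, 9⟩, ⟨1, 6, 14⟩, ⟨1, 7, 2⟩, ⟨1, 7, 3⟩, ⟨1, 7, 7⟩, ⟨1, 7, 11⟩, ⟨1, 7, 13⟩,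
  ⟨1, 8, 1⟩, ⟨1, 8, 8⟩, ⟨1, 8, 10⟩, ⟨1, 8, 12⟩, ⟨1, 8, 15⟩, ⟨1, 9, 4⟩, ⟨1, 9, 5⟩, ⟨1, 9, 6⟩,
  ⟨1, 9, 9⟩, ⟨1, 9, 14⟩, ⟨1, 10, 1⟩, ⟨1, 10, 8⟩, ⟨1, 10, 10⟩, ⟨1, 10, 12⟩, ⟨1, 10, 15⟩, ⟨1, 11, 2⟩,
  ⟨1, 11, 3⟩, ⟨1, 11, 7⟩, ⟨1, 11, 11⟩, ⟨1, 11, 13⟩, ⟨1, 12, 1⟩, ⟨1, 12, 8⟩, ⟨1, 12, 10⟩, ⟨1, 12, 12⟩,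
  ⟨1, 12, 15⟩, ⟨1, 13, 2⟩, ⟨1, 13, 3⟩, ⟨1, 13, 7⟩, ⟨1, 13, 11⟩, ⟨1, 13, 13⟩, ⟨1, 14, 4⟩, ⟨1, 14, 5⟩,
  ⟨1, 14, 6⟩, ⟨1, 14, 9⟩, ⟨1, 14, 14⟩, ⟨1, 15, 1⟩, ⟨1, 15, 8⟩, ⟨1, 15, 10⟩, ⟨1, 15, 12⟩, ⟨1, 15, 15⟩,
  ⟨2, 0, 4⟩, ⟨2, 0, 5⟩, ⟨2, 0, 6⟩, ⟨2, 0, 9⟩, ⟨2, 0, 14⟩, ⟨2, 1, 2⟩, ⟨2, 1, 3⟩, ⟨2, 1, 7⟩,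
  ⟨2, 1, 11⟩, ⟨2, 1, 13⟩, ⟨2, 2, 1⟩, ⟨2, 2, 8⟩, ⟨2, 2, 10⟩, ⟨2, 2, 12⟩, ⟨2, 2, 15⟩, ⟨2, 3, 1⟩,
  ⟨2, 3, 8⟩, ⟨2, 3, 10⟩, ⟨2, 3, 12⟩, ⟨2, 3, 15⟩, ⟨2, 4, 0⟩, ⟨2, 5, 0⟩, ⟨2, 6, 0⟩, ⟨2, 7, 1⟩,
  ⟨2, 7, 8⟩, ⟨2, 7, 10⟩, ⟨2, 7, 12⟩, ⟨2, 7, 15⟩, ⟨2, 8, 2⟩, ⟨2, 8, 3⟩, ⟨2, 8, 7⟩, ⟨2, 8, 11⟩,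
  ⟨2, 8, 13⟩, ⟨2, 9, 0⟩, ⟨2, 10, 2⟩, ⟨2, 10, 3⟩, ⟨2, 10, 7⟩, ⟨2, 10, 11⟩, ⟨2, 10, 13⟩, ⟨2, 11, 1⟩,
  ⟨2, 11, 8⟩, ⟨2, 11, 10⟩, ⟨2, 11, 12⟩, ⟨2, 11, 15⟩, ⟨2, 12, 2⟩, ⟨2, 12, 3⟩, ⟨2, 12, 7⟩, ⟨2, 12, 11⟩,
  ⟨2, 12, 13⟩, ⟨2, 13, 1⟩, ⟨2, 13, 8⟩, ⟨2, 13, 10⟩, ⟨2, 13, 12⟩, ⟨2, 13, 15⟩, ⟨2, 14, 0⟩, ⟨2, 15, 2⟩,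
  ⟨2, 15, 3⟩, ⟨2, 15, 7⟩, ⟨2, 15, 11⟩, ⟨2, 15, 13⟩, ⟨3, 0, 4⟩, ⟨3, 0, 5⟩, ⟨3, 0, 6⟩, ⟨3, 0, 9⟩,
  ⟨3, 0, 14⟩, ⟨3, 1, 2⟩, ⟨3, 1, 3⟩, ⟨3, 1, 7⟩, ⟨3, 1, 11⟩, ⟨3, 1, 13⟩, ⟨3, 2, 1⟩, ⟨3, 2, 8⟩,
  ⟨3, 2, 10⟩, ⟨3, 2, 12⟩, ⟨3, 2, 15⟩, ⟨3, 3, 1⟩, ⟨3, 3, 8⟩, ⟨3, 3, 10⟩, ⟨3, 3, 12⟩, ⟨3, 3, 15⟩,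
  ⟨3, 4, 0⟩, ⟨3, 5, 0⟩, ⟨3, 6, 0⟩, ⟨3, 7, 1⟩, ⟨3, 7, 8⟩, ⟨3, 7, 10⟩, ⟨3, 7, 12⟩, ⟨3, 7, 15⟩,
  ⟨3, 8, 2⟩, ⟨3, 8, 3⟩, ⟨3, 8, 7⟩, ⟨3, 8, 11⟩, ⟨3, 8, 13⟩, ⟨3, 9, 0⟩, ⟨3, 10, 2⟩, ⟨3, 10, 3⟩,
  ⟨3, 10, 7⟩, ⟨3, 10, 11⟩, ⟨3, 10, 13⟩, ⟨3, 11, 1⟩, ⟨3, 11, 8⟩, ⟨3, 11, 10⟩, ⟨3, 11, 12⟩, ⟨3, 11, 15⟩,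
  ⟨3, 12, 2⟩, ⟨3, 12, 3⟩, ⟨3, 12, 7⟩, ⟨3, 12, 11⟩, ⟨3, 12, 13⟩, ⟨3, 13, 1⟩, ⟨3, 13, 8⟩, ⟨3, 13, 10⟩,
  ⟨3, 13, 12⟩, ⟨3, 13, 15⟩, ⟨3, 14, 0⟩, ⟨3, 15, 2⟩, ⟨3, 15, 3⟩, ⟨3, 15, 7⟩, ⟨3, 15, 11⟩, ⟨3, 15, 13⟩,
  ⟨4, 0, 2⟩, ⟨4, 0, 3⟩, ⟨4, 0, 7⟩, ⟨4, 0, 11⟩, ⟨4, 0, 13⟩, ⟨4, 1, 4⟩, ⟨4, 1, 5⟩, ⟨4, 1, 6⟩,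
  ⟨4, 1, 9⟩, ⟨4, 1, 14⟩, ⟨4, 2, 0⟩, ⟨4, 3, 0⟩, ⟨4, 4, 1⟩, ⟨4, 4, 8⟩, ⟨4, 4, 10⟩, ⟨4, 4, 12⟩,
  ⟨4, 4, 15⟩, ⟨4, 5, 1⟩, ⟨4, 5, 8⟩, ⟨4, 5, 10⟩, ⟨4, 5, 12⟩, ⟨4, 5, 15⟩, ⟨4, 6, 1⟩, ⟨4, 6, 8⟩,
  ⟨4, 6, 10⟩, ⟨4, 6, 12⟩, ⟨4, 6, 15⟩, ⟨4, 7, 0⟩, ⟨4, 8, 4⟩, ⟨4, 8, 5⟩, ⟨4, 8, 6⟩, ⟨4, 8, 9⟩,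
  ⟨4, 8, 14⟩, ⟨4, 9, 1⟩, ⟨4, 9, 8⟩, ⟨4, 9, 10⟩, ⟨4, 9, 12⟩, ⟨4, 9, 15⟩, ⟨4, 10, 4⟩, ⟨4, 10, 5⟩,
  ⟨4, 10, 6⟩, ⟨4, 10, 9⟩, ⟨4, 10, 14⟩, ⟨4, 11, 0⟩, ⟨4, 12, 4⟩, ⟨4, 12, 5⟩, ⟨4, 12, 6⟩, ⟨4, 12, 9⟩,
  ⟨4, 12, 14⟩, ⟨4, 13, 0⟩, ⟨4, 14, 1⟩, ⟨4, 14, 8⟩, ⟨4, 14, 10⟩, ⟨4, 14, 12⟩, ⟨4, 14, 15⟩, ⟨4, 15, 4⟩,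
  ⟨4, 15, 5⟩, ⟨4, 15, 6⟩, ⟨4, 15, 9⟩, ⟨4, 15, 14⟩, ⟨5, 0, 2⟩, ⟨5, 0, 3⟩, ⟨5, 0, 7⟩, ⟨5, 0, 11⟩,
  ⟨5, 0, 13⟩, ⟨5, 1, 4⟩, ⟨5, 1, 5⟩, ⟨5, 1, 6⟩, ⟨5, 1, 9⟩, ⟨5, 1, 14⟩, ⟨5, 2, 0⟩, ⟨5, 3, 0⟩,
  ⟨5, 4, 1⟩, ⟨5, 4, 8⟩, ⟨5, 4, 10⟩, ⟨5, 4, 12⟩, ⟨5, 4, 15⟩, ⟨5, 5, 1⟩, ⟨5, 5, 8⟩, ⟨5, 5, 10⟩,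
  ⟨5, 5, 12⟩, ⟨5, 5, 15⟩, ⟨5, 6, 1⟩, ⟨5, 6, 8⟩, ⟨5, 6, 10⟩, ⟨5, 6, 12⟩, ⟨5, 6, 15⟩, ⟨5, 7, 0⟩,
  ⟨5, 8, 4⟩, ⟨5, 8, 5⟩, ⟨5, 8, 6⟩, ⟨5, 8, 9⟩, ⟨5, 8, 14⟩, ⟨5, 9, 1⟩, ⟨5, 9, 8⟩, ⟨5, 9, 10⟩,
  ⟨5, 9, 12⟩, ⟨5, 9, 15⟩, ⟨5, 10, 4⟩, ⟨5, 10, 5⟩, ⟨5, 10, 6⟩, ⟨5, 10, 9⟩, ⟨5, 10, 14⟩, ⟨5, 11, 0⟩,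
  ⟨5, 12, 4⟩, ⟨5, 12, 5⟩, ⟨5, 12, 6⟩, ⟨5, 12, 9⟩, ⟨5, 12, 14⟩, ⟨5, 13, 0⟩, ⟨5, 14, 1⟩, ⟨5, 14, 8⟩,
  ⟨5, 14, 10⟩, ⟨5, 14, 12⟩, ⟨5, 14, 15⟩, ⟨5, 15, 4⟩, ⟨5, 15, 5⟩, ⟨5, 15, 6⟩, ⟨5, 15, 9⟩, ⟨5, 15, 14⟩,
  ⟨6, 0, 2⟩, ⟨6, 0, 3⟩, ⟨6, 0, 7⟩, ⟨6, 0, 11⟩, ⟨6, 0, 13⟩, ⟨6, 1, 4⟩, ⟨6, 1, 5⟩, ⟨6, 1, 6⟩,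
  ⟨6, 1, 9⟩, ⟨6, 1, 14⟩, ⟨6, 2, 0⟩, ⟨6, 3, 0⟩, ⟨6, 4, 1⟩, ⟨6, 4, 8⟩, ⟨6, 4, 10⟩, ⟨6, 4, 12⟩,
  ⟨6, 4, 15⟩, ⟨6, 5, 1⟩, ⟨6, 5, 8⟩, ⟨6, 5, 10⟩, ⟨6, 5, 12⟩, ⟨6, 5, 15⟩, ⟨6, 6, 1⟩, ⟨6, 6, 8⟩,
  ⟨6, 6, 10⟩, ⟨6, 6, 12⟩, ⟨6, 6, 15⟩, ⟨6, 7, 0⟩, ⟨6, 8, 4⟩, ⟨6, 8, 5⟩, ⟨6, 8, 6⟩, ⟨6, 8, 9⟩,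
  ⟨6, 8, 14⟩, ⟨6, 9, 1⟩, ⟨6, 9, 8⟩, ⟨6, 9, 10⟩, ⟨6, 9, 12⟩, ⟨6, 9, 15⟩, ⟨6, 10, 4⟩, ⟨6, 10, 5⟩,
  ⟨6, 10, 6⟩, ⟨6, 10, 9⟩, ⟨6, 10, 14⟩, ⟨6, 11, 0⟩, ⟨6, 12, 4⟩, ⟨6, 12, 5⟩, ⟨6, 12, 6⟩, ⟨6, 12, 9⟩,
  ⟨6, 12, 14⟩, ⟨6, 13, 0⟩, ⟨6, 14, 1⟩, ⟨6, 14, 8⟩, ⟨6, 14, 10⟩, ⟨6, 14, 12⟩, ⟨6, 14, 15⟩, ⟨6, 15, 4⟩,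
  ⟨6, 15, 5⟩, ⟨6, 15, 6⟩, ⟨6, 15, 9⟩, ⟨6, 15, 14⟩, ⟨7, 0, 4⟩, ⟨7, 0, 5⟩, ⟨7, 0, 6⟩, ⟨7, 0, 9⟩,
  ⟨7, 0, 14⟩, ⟨7, 1, 2⟩, ⟨7, 1, 3⟩, ⟨7, 1, 7⟩, ⟨7, 1, 11⟩, ⟨7, 1, 13⟩, ⟨7, 2, 1⟩, ⟨7, 2, 8⟩,
  ⟨7, 2, 10⟩, ⟨7, 2, 12⟩, ⟨7, 2, 15⟩, ⟨7, 3, 1⟩, ⟨7, 3, 8⟩, ⟨7, 3, 10⟩, ⟨7, 3, 12⟩, ⟨7, 3, 15⟩,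
  ⟨7, 4, 0⟩, ⟨7, 5, 0⟩, ⟨7, 6, 0⟩, ⟨7, 7, 1⟩, ⟨7, 7, 8⟩, ⟨7, 7, 10⟩, ⟨7, 7, 12⟩, ⟨7, 7, 15⟩,
  ⟨7, 8, 2⟩, ⟨7, 8, 3⟩, ⟨7, 8, 7⟩, ⟨7, 8, 11⟩, ⟨7, 8, 13⟩, ⟨7, 9, 0⟩, ⟨7, 10, 2⟩, ⟨7, 10, 3⟩,
  ⟨7, 10, 7⟩, ⟨7, 10, 11⟩, ⟨7, 10, 13⟩, ⟨7, 11, 1⟩, ⟨7, 11, 8⟩, ⟨7, 11, 10⟩, ⟨7, 11, 12⟩, ⟨7, 11, 15⟩,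
  ⟨7, 12, 2⟩, ⟨7, 12, 3⟩, ⟨7, 12, 7⟩, ⟨7, 12, 11⟩, ⟨7, 12, 13⟩, ⟨7, 13, 1⟩, ⟨7, 13, 8⟩, ⟨7, 13, 10⟩,
  ⟨7, 13, 12⟩, ⟨7, 13, 15⟩, ⟨7, 14, 0⟩, ⟨7, 15, 2⟩, ⟨7, 15, 3⟩, ⟨7, 15, 7⟩, ⟨7, 15, 11⟩, ⟨7, 15, 13⟩,
  ⟨8, 0, 0⟩, ⟨8, 1, 1⟩, ⟨8, 1, 8⟩, ⟨8, 1, 10⟩, ⟨8, 1, 12⟩, ⟨8, 1, 15⟩, ⟨8, 2, 2⟩, ⟨8, 2, 3⟩,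
  ⟨8, 2, 7⟩, ⟨8, 2, 11⟩, ⟨8, 2, 13⟩, ⟨8, 3, 2⟩, ⟨8, 3, 3⟩, ⟨8, 3, 7⟩, ⟨8, 3, 11⟩, ⟨8, 3, 13⟩,
  ⟨8, 4, 4⟩, ⟨8, 4, 5⟩, ⟨8, 4, 6⟩, ⟨8, 4, 9⟩, ⟨8, 4, 14⟩, ⟨8, 5, 4⟩, ⟨8, 5, 5⟩, ⟨8, 5, 6⟩,
  ⟨8, 5, 9⟩, ⟨8, 5, 14⟩, ⟨8, 6, 4⟩, ⟨8, 6, 5⟩, ⟨8, 6, 6⟩, ⟨8, 6, 9⟩, ⟨8, 6, 14⟩, ⟨8, 7, 2⟩,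
  ⟨8, 7, 3⟩, ⟨8, 7, 7⟩, ⟨8, 7, 11⟩, ⟨8, 7, 13⟩, ⟨8, 8, 1⟩, ⟨8, 8, 8⟩, ⟨8, 8, 10⟩, ⟨8, 8, 12⟩,
  ⟨8, 8, 15⟩, ⟨8, 9, 4⟩, ⟨8, 9, 5⟩, ⟨8, 9, 6⟩, ⟨8, 9, 9⟩, ⟨8, 9, 14⟩, ⟨8, 10, 1⟩, ⟨8, 10, 8⟩,
  ⟨8, 10, 10⟩, ⟨8, 10, 12⟩, ⟨8, 10, 15⟩, ⟨8, 11, 2⟩, ⟨8, 11, 3⟩, ⟨8, 11, 7⟩, ⟨8, 11, 11⟩, ⟨8, 11, 13⟩,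
  ⟨8, 12, 1⟩, ⟨8, 12, 8⟩, ⟨8, 12, 10⟩, ⟨8, 12, 12⟩, ⟨8, 12, 15⟩, ⟨8, 13, 2⟩, ⟨8, 13, 3⟩, ⟨8, 13, 7⟩,
  ⟨8, 13, 11⟩, ⟨8, 13, 13⟩, ⟨8, 14, 4⟩, ⟨8, 14, 5⟩, ⟨8, 14, 6⟩, ⟨8, 14, 9⟩, ⟨8, 14, 14⟩, ⟨8, 15, 1⟩,
  ⟨8, 15, 8⟩, ⟨8, 15, 10⟩, ⟨8, 15, 12⟩, ⟨8, 15, 15⟩, ⟨9, 0, 2⟩, ⟨9, 0, 3⟩, ⟨9, 0, 7⟩, ⟨9, 0, 11⟩,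
  ⟨9, 0, 13⟩, ⟨9, 1, 4⟩, ⟨9, 1, 5⟩, ⟨9, 1, 6⟩, ⟨9, 1, 9⟩, ⟨9, 1, 14⟩, ⟨9, 2, 0⟩, ⟨9, 3, 0⟩,
  ⟨9, 4, 1⟩, ⟨9, 4, 8⟩, ⟨9, 4, 10⟩, ⟨9, 4, 12⟩, ⟨9, 4, 15⟩, ⟨9, 5, 1⟩, ⟨9, 5, 8⟩, ⟨9, 5, 10⟩,
  ⟨9, 5, 12⟩, ⟨9, 5, 15⟩, ⟨9, 6, 1⟩, ⟨9, 6, 8⟩, ⟨9, 6, 10⟩, ⟨9, 6, 12⟩, ⟨9, 6, 15⟩, ⟨9, 7, 0⟩,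
  ⟨9, 8, 4⟩, ⟨9, 8, 5⟩, ⟨9, 8, 6⟩, ⟨9, 8, 9⟩, ⟨9, 8, 14⟩, ⟨9, 9, 1⟩, ⟨9, 9, 8⟩, ⟨9, 9, 10⟩,
  ⟨9, 9, 12⟩, ⟨9, 9, 15⟩, ⟨9, 10, 4⟩, ⟨9, 10, 5⟩, ⟨9, 10, 6⟩, ⟨9, 10, 9⟩, ⟨9, 10, 14⟩, ⟨9, 11, 0⟩,
  ⟨9, 12, 4⟩, ⟨9, 12, 5⟩, ⟨9, 12, 6⟩, ⟨9, 12, 9⟩, ⟨9, 12, 14⟩, ⟨9, 13, 0⟩, ⟨9, 14, 1⟩, ⟨9, 14, 8⟩,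
  ⟨9, 14, 10⟩, ⟨9, 14, 12⟩, ⟨9, 14, 15⟩, ⟨9, 15, 4⟩, ⟨9, 15, 5⟩, ⟨9, 15, 6⟩, ⟨9, 15, 9⟩, ⟨9, 15, 14⟩,
  ⟨10, 0, 0⟩, ⟨10, 1, 1⟩, ⟨10, 1, 8⟩, ⟨10, 1, 10⟩, ⟨10, 1, 12⟩, ⟨10, 1, 15⟩, ⟨10, 2, 2⟩, ⟨10, 2, 3⟩,
  ⟨10, 2, 7⟩, ⟨10, 2, 11⟩, ⟨10, 2, 13⟩, ⟨10, 3, 2⟩, ⟨10, 3, 3⟩, ⟨10, 3, 7⟩, ⟨10, 3, 11⟩, ⟨10, 3, 13⟩,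
  ⟨10, 4, 4⟩, ⟨10, 4, 5⟩, ⟨10, 4, 6⟩, ⟨10, 4, 9⟩, ⟨10, 4, 14⟩, ⟨10, 5, 4⟩, ⟨10, 5, 5⟩, ⟨10, 5, 6⟩,
  ⟨10, 5, 9⟩, ⟨10, 5, 14⟩, ⟨10, 6, 4⟩, ⟨10, 6, 5⟩, ⟨10, 6, 6⟩, ⟨10, 6, 9⟩, ⟨10, 6, 14⟩, ⟨10, 7, 2⟩,
  ⟨10, 7, 3⟩, ⟨10, 7, 7⟩, ⟨10, 7, 11⟩, ⟨10, 7, 13⟩, ⟨10, 8, 1⟩, ⟨10, 8, 8⟩, ⟨10, 8, 10⟩, ⟨10, 8, 12⟩,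
  ⟨10, 8, 15⟩, ⟨10, 9, 4⟩, ⟨10, 9, 5⟩, ⟨10, 9, 6⟩, ⟨10, 9, 9⟩, ⟨10, 9, 14⟩, ⟨10, 10, 1⟩, ⟨10, 10, 8⟩,
  ⟨10, 10, 10⟩, ⟨10, 10, 12⟩, ⟨10, 10, 15⟩, ⟨10, 11, 2⟩, ⟨10, 11, 3⟩, ⟨10, 11, 7⟩, ⟨10, 11, 11⟩, ⟨10, 11, 13⟩,
  ⟨10, 12, 1⟩, ⟨10, 12, 8⟩, ⟨10, 12, 10⟩, ⟨10, 12, 12⟩, ⟨10, 12, 15⟩, ⟨10, 13, 2⟩, ⟨10, 13, 3⟩, ⟨10, 13, 7⟩,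
  ⟨10, 13, 11⟩, ⟨10, 13, 13⟩, ⟨10, 14, 4⟩, ⟨10, 14, 5⟩, ⟨10, 14, 6⟩, ⟨10, 14, 9⟩, ⟨10, 14, 14⟩, ⟨10, 15, 1⟩,
  ⟨10, 15, 8⟩, ⟨10, 15, 10⟩, ⟨10, 15, 12⟩, ⟨10, 15, 15⟩, ⟨11, 0, 4⟩, ⟨11, 0, 5⟩, ⟨11, 0, 6⟩, ⟨11, 0, 9⟩,
  ⟨11, 0, 14⟩, ⟨11, 1, 2⟩, ⟨11, 1, 3⟩, ⟨11, 1, 7⟩, ⟨11, 1, 11⟩, ⟨11, 1, 13⟩, ⟨11, 2, 1⟩, ⟨11, 2, 8⟩,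
  ⟨11, 2, 10⟩, ⟨11, 2, 12⟩, ⟨11, 2, 15⟩, ⟨11, 3, 1⟩, ⟨11, 3, 8⟩, ⟨11, 3, 10⟩, ⟨11, 3, 12⟩, ⟨11, 3, 15⟩,
  ⟨11, 4, 0⟩, ⟨11, 5, 0⟩, ⟨11, 6, 0⟩, ⟨11, 7, 1⟩, ⟨11, 7, 8⟩, ⟨11, 7, 10⟩, ⟨11, 7, 12⟩, ⟨11, 7, 15⟩,
  ⟨11, 8, 2⟩, ⟨11, 8, 3⟩, ⟨11, 8, 7⟩, ⟨11, 8, 11⟩, ⟨11, 8, 13⟩, ⟨11, 9, 0⟩, ⟨11, 10, 2⟩, ⟨11, 10, 3⟩,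
  ⟨11, 10, 7⟩, ⟨11, 10, 11⟩, ⟨11, 10, 13⟩, ⟨11, 11, 1⟩, ⟨11, 11, 8⟩, ⟨11, 11, 10⟩, ⟨11, 11, 12⟩, ⟨11, 11, 15⟩,
  ⟨11, 12, 2⟩, ⟨11, 12, 3⟩, ⟨11, 12, 7⟩, ⟨11, 12, 11⟩, ⟨11, 12, 13⟩, ⟨11, 13, 1⟩, ⟨11, 13, 8⟩, ⟨11, 13, 10⟩,
  ⟨11, 13, 12⟩, ⟨11, 13, 15⟩, ⟨11, 14, 0⟩, ⟨11, 15, 2⟩, ⟨11, 15, 3⟩, ⟨11, 15, 7⟩, ⟨11, 15, 11⟩, ⟨11, 15, 13⟩,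
  ⟨12, 0, 0⟩, ⟨12, 1, 1⟩, ⟨12, 1, 8⟩, ⟨12, 1, 10⟩, ⟨12, 1, 12⟩, ⟨12, 1, 15⟩, ⟨12, 2, 2⟩, ⟨12, 2, 3⟩,
  ⟨12, 2, 7⟩, ⟨12, 2, 11⟩, ⟨12, 2, 13⟩, ⟨12, 3, 2⟩, ⟨12, 3, 3⟩, ⟨12, 3, 7⟩, ⟨12, 3, 11⟩, ⟨12, 3, 13⟩,
  ⟨12, 4, 4⟩, ⟨12, 4, 5⟩, ⟨12, 4, 6⟩, ⟨12, 4, 9⟩, ⟨12, 4, 14⟩, ⟨12, 5, 4⟩, ⟨12, 5, 5⟩, ⟨12, 5, 6⟩,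
  ⟨12, 5, 9⟩, ⟨12, 5, 14⟩, ⟨12, 6, 4⟩, ⟨12, 6, 5⟩, ⟨12, 6, 6⟩, ⟨12, 6, 9⟩, ⟨12, 6, 14⟩, ⟨12, 7, 2⟩,
  ⟨12, 7, 3⟩, ⟨12, 7, 7⟩, ⟨12, 7, 11⟩, ⟨12, 7, 13⟩, ⟨12, 8, 1⟩, ⟨12, 8, 8⟩, ⟨12, 8, 10⟩, ⟨12, 8, 12⟩,
  ⟨12, 8, 15⟩, ⟨12, 9, 4⟩, ⟨12, 9, 5⟩, ⟨12, 9, 6⟩, ⟨12, 9, 9⟩, ⟨12, 9, 14⟩, ⟨12, 10, 1⟩, ⟨12, 10, 8⟩,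
  ⟨12, 10, 10⟩, ⟨12, 10, 12⟩, ⟨12, 10, 15⟩, ⟨12, 11, 2⟩, ⟨12, 11, 3⟩, ⟨12, 11, 7⟩, ⟨12, 11, 11⟩, ⟨12, 11, 13⟩,
  ⟨12, 12, 1⟩, ⟨12, 12, 8⟩, ⟨12, 12, 10⟩, ⟨12, 12, 12⟩, ⟨12, 12, 15⟩, ⟨12, 13, 2⟩, ⟨12, 13, 3⟩, ⟨12, 13, 7⟩,
  ⟨12, 13, 11⟩, ⟨12, 13, 13⟩, ⟨12, 14, 4⟩, ⟨12, 14, 5⟩, ⟨12, 14, 6⟩, ⟨12, 14, 9⟩, ⟨12, 14, 14⟩, ⟨12, 15, 1⟩,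
  ⟨12, 15, 8⟩, ⟨12, 15, 10⟩, ⟨12, 15, 12⟩, ⟨12, 15, 15⟩, ⟨13, 0, 4⟩, ⟨13, 0, 5⟩, ⟨13, 0, 6⟩, ⟨13, 0, 9⟩,
  ⟨13, 0, 14⟩, ⟨13, 1, 2⟩, ⟨13, 1, 3⟩, ⟨13, 1, 7⟩, ⟨13, 1, 11⟩, ⟨13, 1, 13⟩, ⟨13, 2, 1⟩, ⟨13, 2, 8⟩,
  ⟨13, 2, 10⟩, ⟨13, 2, 12⟩, ⟨13, 2, 15⟩, ⟨13, 3, 1⟩, ⟨13, 3, 8⟩, ⟨13, 3, 10⟩, ⟨13, 3, 12⟩, ⟨13, 3, 15⟩,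
  ⟨13, 4, 0⟩, ⟨13, 5, 0⟩, ⟨13, 6, 0⟩, ⟨13, 7, 1⟩, ⟨13, 7, 8⟩, ⟨13, 7, 10⟩, ⟨13, 7, 12⟩, ⟨13, 7, 15⟩,
  ⟨13, 8, 2⟩, ⟨13, 8, 3⟩, ⟨13, 8, 7⟩, ⟨13, 8, 11⟩, ⟨13, 8, 13⟩, ⟨13, 9, 0⟩, ⟨13, 10, 2⟩, ⟨13, 10, 3⟩,
  ⟨13, 10, 7⟩, ⟨13, 10, 11⟩, ⟨13, 10, 13⟩, ⟨13, 11, 1⟩, ⟨13, 11, 8⟩, ⟨13, 11, 10⟩, ⟨13, 11, 12⟩, ⟨13, 11, 15⟩,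
  ⟨13, 12, 2⟩, ⟨13, 12, 3⟩, ⟨13, 12, 7⟩, ⟨13, 12, 11⟩, ⟨13, 12, 13⟩, ⟨13, 13, 1⟩, ⟨13, 13, 8⟩, ⟨13, 13, 10⟩,
  ⟨13, 13, 12⟩, ⟨13, 13, 15⟩, ⟨13, 14, 0⟩, ⟨13, 15, 2⟩, ⟨13, 15, 3⟩, ⟨13, 15, 7⟩, ⟨13, 15, 11⟩, ⟨13, 15, 13⟩,
  ⟨14, 0, 2⟩, ⟨14, 0, 3⟩, ⟨14, 0, 7⟩, ⟨14, 0, 11⟩, ⟨14, 0, 13⟩, ⟨14, 1, 4⟩, ⟨14, 1, 5⟩, ⟨14, 1, 6⟩,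
  ⟨14, 1, 9⟩, ⟨14, 1, 14⟩, ⟨14, 2, 0⟩, ⟨14, 3, 0⟩, ⟨14, 4, 1⟩, ⟨14, 4, 8⟩, ⟨14, 4, 10⟩, ⟨14, 4, 12⟩,
  ⟨14, 4, 15⟩, ⟨14, 5, 1⟩, ⟨14, 5, 8⟩, ⟨14, 5, 10⟩, ⟨14, 5, 12⟩, ⟨14, 5, 15⟩, ⟨14, 6, 1⟩, ⟨14, 6, 8⟩,
  ⟨14, 6, 10⟩, ⟨14, 6, 12⟩, ⟨14, 6, 15⟩, ⟨14, 7, 0⟩, ⟨14, 8, 4⟩, ⟨14, 8, 5⟩, ⟨14, 8, 6⟩, ⟨14, 8, 9⟩,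
  ⟨14, 8, 14⟩, ⟨14, 9, 1⟩, ⟨14, 9, 8⟩, ⟨14, 9, 10⟩, ⟨14, 9, 12⟩, ⟨14, 9, 15⟩, ⟨14, 10, 4⟩, ⟨14, 10, 5⟩,
  ⟨14, 10, 6⟩, ⟨14, 10, 9⟩, ⟨14, 10, 14⟩, ⟨14, 11, 0⟩, ⟨14, 12, 4⟩, ⟨14, 12, 5⟩, ⟨14, 12, 6⟩, ⟨14, 12, 9⟩,
  ⟨14, 12, 14⟩, ⟨14, 13, 0⟩, ⟨14, 14, 1⟩, ⟨14, 14, 8⟩, ⟨14, 14, 10⟩, ⟨14, 14, 12⟩, ⟨14, 14, 15⟩, ⟨14, 15, 4⟩,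
  ⟨14, 15, 5⟩, ⟨14, 15, 6⟩, ⟨14, 15, 9⟩, ⟨14, 15, 14⟩, ⟨15, 0, 0⟩, ⟨15, 1, 1⟩, ⟨15, 1, 8⟩, ⟨15, 1, 10⟩,
  ⟨15, 1, 12⟩, ⟨15, 1, 15⟩, ⟨15, 2, 2⟩, ⟨15, 2, 3⟩, ⟨15, 2, 7⟩, ⟨15, 2, 11⟩, ⟨15, 2, 13⟩, ⟨15, 3, 2⟩,
  ⟨15, 3, 3⟩, ⟨15, 3, 7⟩, ⟨15, 3, 11⟩, ⟨15, 3, 13⟩, ⟨15, 4, 4⟩, ⟨15, 4, 5⟩, ⟨15, 4, 6⟩, ⟨15, 4, 9⟩,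
  ⟨15, 4, 14⟩, ⟨15, 5, 4⟩, ⟨15, 5, 5⟩, ⟨15, 5, 6⟩, ⟨15, 5, 9⟩, ⟨15, 5, 14⟩, ⟨15, 6, 4⟩, ⟨15, 6, 5⟩,
  ⟨15, 6, 6⟩, ⟨15, 6, 9⟩, ⟨15, 6, 14⟩, ⟨15, 7, 2⟩, ⟨15, 7, 3⟩, ⟨15, 7, 7⟩, ⟨15, 7, 11⟩, ⟨15, 7, 13⟩,
  ⟨15, 8, 1⟩, ⟨15, 8, 8⟩, ⟨15, 8, 10⟩, ⟨15, 8, 12⟩, ⟨15, 8, 15⟩, ⟨15, 9, 4⟩, ⟨15, 9, 5⟩, ⟨15, 9, 6⟩,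
  ⟨15, 9, 9⟩, ⟨15, 9, 14⟩, ⟨15, 10, 1⟩, ⟨15, 10, 8⟩, ⟨15, 10, 10⟩, ⟨15, 10, 12⟩, ⟨15, 10, 15⟩, ⟨15, 11, 2⟩,
  ⟨15, 11, 3⟩, ⟨15, 11, 7⟩, ⟨15, 11, 11⟩, ⟨15, 11, 13⟩, ⟨15, 12, 1⟩, ⟨15, 12, 8⟩, ⟨15, 12, 10⟩, ⟨15, 12, 12⟩,
  ⟨15, 12, 15⟩, ⟨15, 13, 2⟩, ⟨15, 13, 3⟩, ⟨15, 13, 7⟩, ⟨15, 13, 11⟩, ⟨15, 13, 13⟩, ⟨15, 14, 4⟩, ⟨15, 14, 5⟩,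
  ⟨15, 14, 6⟩, ⟨15, 14, 9⟩, ⟨15, 14, 14⟩, ⟨15, 15, 1⟩, ⟨15, 15, 8⟩, ⟨15, 15, 10⟩, ⟨15, 15, 12⟩, ⟨15, 15, 15⟩]

/-- The trace table. -/
def traceTab : List ℕ := [0, 0, 0, 0, 0, 0, 2, 2, 0, 4, 0, 4, 0, 4, 4, 0]

end CfsgLib.Spec53.U34
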